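import Cfsg.Agent.N9.Loc
import Cfsg.Agent.N9.Dk
import Cfsg.Agent.H70.Conj

/-! The normaliser of `3^(1+4)` in `GL₉`: a transvection in the first block. -/

set_option autoImplicit false
set_option linter.unusedSectionVars false
set_option linter.unusedVariables false
set_option linter.unusedSimpArgs false

namespace Cfsg.Agent.N9

open Cfsg Cfsg.Geo Cfsg.Agent.H99 Cfsg.Agent.H85.L3 Matrix

namespace TvX

open Cfsg.Agent.H98

variable {F : Type*} [Field F] [Fintype F]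

local notation "𝐆" => GL (Fin 3) F
local notation "𝐇" => GL I9 F
local notation "𝐌" => Matrix (Fin 3) (Fin 3) F

theorem hd_pow {M : Subgroup 𝐇} {β : Fˣ} (hD : HD M β) (k : ℕ) : HD M (β ^ k) := fun a b e => by
  have := pow_mem (hD a b e) k
  rwa [dd, ← map_pow, mul_pow, ← Pi.mulSingle_pow, ← Pi.mulSingle_pow, inv_pow] at this

theorem single_single (k i : Fin 3) (β : Fˣ) :
    bd (Pi.mulSingle k (dg (Pi.mulSingle i β) : 𝐆)) = dg (Pi.mulSingle ((i, k) : I9) β) := by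
  rw [single_dg]
  congr 1
  funext ⟨a, b⟩
  by_cases h : b = k <;> simp [Pi.mulSingle_apply, h]

theorem single_P : bd (Pi.mulSingle 0 (PG F)) = pm F (Equiv.swap ((1, 0) : I9) (2, 0)) := by
  rw [show Equiv.swap ((1, 0) : I9) (2, 0) =
      Equiv.prodCongrLeft fun k : Fin 3 => if k = 0 then Equiv.swap 1 2 else 1 by decide, ← bd_pm]
  congr 1
  funext k
  rw [Pi.mulSingle_apply]
  split_ifs
  exacts [rfl, (map_one _).symm]

variable (F) in
/-- a basis of the fixed space of `P` -/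
def JW : Matrix (Fin 3) (Fin 2) F := !![1, 0; 0, 1; 0, 1]

variable (F) in
/-- a left inverse of `JW` -/
def KW : Matrix (Fin 2) (Fin 3) F := !![1, 0, 0; 0, 1, 0]

theorem KW_JW : KW F * JW F = 1 := by
  ext i j
  fin_cases i <;> fin_cases j <;> simp [KW, JW, Matrix.mul_apply, Fin.sum_univ_three]

variable (F) in
/-- the elements commuting with `P` and fixing `vA` -/
def CP : Subgroup 𝐆 := Subgroup.centralizer {PG F} ⊓ MulAction.stabilizer 𝐆 (vA F)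

theorem mem_CP {g : 𝐆} : g ∈ CP F ↔ g * PG F = PG F * g ∧ (g : 𝐌) *ᵥ vA F = vA F :=
  ⟨fun ⟨b, c⟩ => ⟨Subgroup.mem_centralizer_singleton_iff.1 b, c⟩,
    fun ⟨b, c⟩ => ⟨Subgroup.mem_centralizer_singleton_iff.2 b, c⟩⟩

theorem exists_res {g : 𝐆} (hg : g ∈ CP F) : ∃ u, On (JW F) g u := by
  refine exists_on KW_JW ?_
  have e := fun i j => congrArg (fun x : 𝐆 => (x : 𝐌) i j) (mem_CP.1 hg).1
  simp only [Units.val_mul, PG, mul_pm_apply, pm_mul_apply] at e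
  have e0 : (g : 𝐌) 2 0 = (g : 𝐌) 1 0 := e 2 0
  have e1 : (g : 𝐌) 2 2 = (g : 𝐌) 1 1 := e 2 1
  have e2 : (g : 𝐌) 2 1 = (g : 𝐌) 1 2 := e 2 2
  ext i j
  simp only [Matrix.mul_apply, Fin.sum_univ_three, Fin.sum_univ_two]
  fin_cases i <;> fin_cases j <;> simp [KW, JW, e0, e1, e2, add_comm]

theorem ext_W (h2 : (2 : F) ≠ 0) {A B : 𝐌} (e1 : A * JW F = B * JW F)
    (e2 : A *ᵥ vA F = B *ᵥ vA F) : A = B := by
  ext i j
  have a0 := congrFun (congrFun e1 i) 0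
  have a1 := congrFun (congrFun e1 i) 1
  have a2 := congrFun e2 i
  simp [JW, vA, Matrix.mul_apply, mulVec, dotProduct, Fin.sum_univ_three] at a0 a1 a2
  fin_cases j
  · exact a0
  · exact mul_left_cancel₀ h2 (show 2 * A i 1 = 2 * B i 1 by linear_combination a1 + a2)
  · exact mul_left_cancel₀ h2 (show 2 * A i 2 = 2 * B i 2 by linear_combination a1 - a2)

theorem eq_of_on (h2 : (2 : F) ≠ 0) {g g' : 𝐆} (hg : g ∈ CP F) (hg' : g' ∈ CP F)
    {u : GL (Fin 2) F} (a : On (JW F) g u) (b : On (JW F) g' u) : g = g' :=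
  Units.ext (ext_W h2 (a.trans b.symm) ((mem_CP.1 hg).2.trans (mem_CP.1 hg').2.symm))

/-- restriction to the fixed space of `P` -/
def res (X : Subgroup 𝐆) : Subgroup (GL (Fin 2) F) where
  carrier := {u | ∃ g ∈ X, On (JW F) g u}
  one_mem' := ⟨1, one_mem _, On.one⟩
  mul_mem' := fun ⟨_, a, b⟩ ⟨_, a', b'⟩ => ⟨_, mul_mem a a', b.mul b'⟩
  inv_mem' := fun ⟨_, a, b⟩ => ⟨_, inv_mem a, b.inv⟩

theorem single_CP (γ : Fˣ) : dg (Pi.mulSingle 0 γ) ∈ CP F := by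
  refine mem_CP.2 ⟨?_, ?_⟩
  · rw [eq_comm, ← mul_inv_eq_iff_eq_mul, PG, pm_dg]
    congr 1
    funext i
    fin_cases i <;> rfl
  · ext i
    rw [coe_dg, mulVec_diagonal]
    fin_cases i <;> simp [vA]

variable {ω : F} {h : Om ω} {M : Subgroup (GL I9 F)}

theorem LL_le_CP : LL h ≤ CP F := fun _ hg => mem_CP.2 ((mem_LL h).1 hg).2

theorem hd_wu {β : Fˣ} (hβ : β ≠ 1) (h3 : β ^ 3 = 1) (hD : HD M β) : HD M (wu h) := by
  rcases h.cases (c := β) (by rw [← Units.val_pow_eq_pow_val, h3, Units.val_one]) with e | e | e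
  · exact absurd (Units.ext e) hβ
  · rwa [show β = wu h from Units.ext e] at hD
  · rw [show wu h = β ^ 2 from Units.ext (by
      rw [Units.val_pow_eq_pow_val, e]
      change ω = _
      linear_combination -ω * h.cube)]
    exact hd_pow hD 2

variable (c : Cl h M)
include c

theorem aa_B0 (hD : HD M (wu h)) : h.h1 * h.h1 ∈ B0 M := by
  have k : ∀ l : Fin 3, l ≠ 0 → bd (Pi.mulSingle 0 h.dG * Pi.mulSingle l h.dG⁻¹) ∈ M :=
    fun l hl => by
      rw [map_mul, dG_eq, ← map_inv dg, ← Pi.mulSingle_inv, single_single, single_single,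
        ← map_mul]
      exact hD _ _ (by simpa using hl.symm)
  have h1 := mul_mem (mul_mem c.a (k 2 (by decide))) (inv_mem c.a)
  rw [k1_bd] at h1
  have h2 := c.comm_B0 (k 1 (by decide)) h1 0 fun l hl => by
    rcases (by decide : ∀ l : Fin 3, l ≠ 0 → l = 1 ∨ l = 2) l hl with rfl | rfl <;> simp
  rw [← comm_t_sq h]
  refine pow_mem ?_ 2
  simpa using h2

theorem hd_neg (h1 : h.h1 * h.h1 ∈ B0 M) : HD M (-1) := by
  rw [mem_B0, aa_eq, Pi.mulSingle_mul, map_mul, single_P, ← dg_const, single_dg] at h1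
  obtain ⟨π, hπ⟩ : ∃ π, π = Equiv.swap ((1, 0) : I9) (2, 0) := ⟨_, rfl⟩
  obtain ⟨s, hs⟩ : ∃ s : I9 → Fˣ, s = fun a => if a.2 = 0 then -1 else 1 := ⟨_, rfl⟩
  rw [← hπ, ← hs] at h1
  obtain ⟨τ, hτ⟩ : ∃ τ : Equiv.Perm I9, τ = (Equiv.prodComm _ _ : Equiv.Perm I9) *
    (Equiv.prodCongrLeft fun _ : Fin 3 => finRotate 3 : Equiv.Perm I9)⁻¹ := ⟨_, rfl⟩
  have h2 : pm F τ ∈ M := by
    rw [hτ, map_mul, map_inv, ← bd_pm, ← yG_eq]
    exact mul_mem c.sw (inv_mem c.x)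
  have h3 := mul_mem (mul_mem h2 h1) (inv_mem h2)
  rw [← conj_mul, pm_dg, ← map_inv, ← map_mul, ← map_mul] at h3
  obtain ⟨π', hπ'⟩ : ∃ π', π' = τ * π * τ⁻¹ := ⟨_, rfl⟩
  obtain ⟨s', hs'⟩ : ∃ s' : I9 → Fˣ, s' = fun a => s (τ⁻¹ a) := ⟨_, rfl⟩
  rw [← hπ', ← hs'] at h3
  have e1 : pm F π' * pm F π = pm F π * pm F π' := by
    rw [← map_mul, ← map_mul, hπ', hπ, hτ]
    congr 1
    decide
  have h4 := mul_mem (mul_mem (mul_mem h3 h1) (inv_mem h3)) (inv_mem h1)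
  have e2 : dg s' * pm F π' * (dg s * pm F π) * (dg s' * pm F π')⁻¹ * (dg s * pm F π)⁻¹ =
      dg s' * (pm F π' * dg s * (pm F π')⁻¹) * (pm F π * dg s'⁻¹ * (pm F π)⁻¹) * dg s⁻¹ := by
    rw [map_inv, map_inv]
    calc _ = dg s' * (pm F π' * dg s * (pm F π')⁻¹) * (pm F π' * pm F π) * (pm F π')⁻¹ *
          (dg s')⁻¹ * (pm F π)⁻¹ * (dg s)⁻¹ := by group
      _ = _ := by rw [e1]; group
  rw [e2, pm_dg, pm_dg, ← map_mul, ← map_mul, ← map_mul] at h4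
  refine c.hd_of_dd (a := (0, 0)) (b := (0, 1)) (by decide) ?_
  rw [dd]
  convert h4 using 2
  have a1 : ∀ a : I9, (τ⁻¹ a).2 = a.1 := by rw [hτ]; decide
  have a2 : ∀ a : I9, ((π⁻¹ a).1 = 0 ↔ a.1 = 0) := by rw [hπ]; decide
  have a3 : ∀ a : I9, ((π'⁻¹ a).2 = 0 ↔ (a = (0, 1) ∨ a ≠ (0, 0) ∧ a.2 = 0)) := by
    rw [hπ', hπ, hτ]; decide
  funext ⟨i, k⟩
  simp only [hs', hs, Pi.mul_apply, Pi.inv_apply, a1, a2, a3, Pi.mulSingle_apply]
  fin_cases i <;> fin_cases k <;> simp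

theorem single_B0 {β : Fˣ} (hD : HD M β) : dg (Pi.mulSingle 0 (β ^ 9)) ∈ B0 M := by
  rw [mem_B0, single_single]
  have h1 : (∏ b : I9, Pi.mulSingle (0, 0) β * Pi.mulSingle b β⁻¹ : I9 → Fˣ) ∈ M.comap dg :=
    prod_mem fun b _ => by
      by_cases e : (0, 0) = b
      · rw [← e, ← Pi.mulSingle_mul, mul_inv_cancel, Pi.mulSingle_one]
        exact one_mem _
      · exact hD _ _ e
  have h2 : (fun _ => β : I9 → Fˣ) ∈ M.comap dg := by
    rw [Subgroup.mem_comap, dg_const]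
    exact c.sc (scal_mem _)
  have h3 := mul_mem h1 h2
  rw [Finset.prod_mul_distrib, Finset.prod_const,
    Finset.univ_prod_mulSingle (fun _ : I9 => β⁻¹), ← Pi.mulSingle_pow,
    show (Finset.univ : Finset I9).card = 9 from rfl,
    show (fun _ : I9 => β⁻¹) = (fun _ : I9 => β)⁻¹ from rfl, inv_mul_cancel_right] at h3
  exact h3

theorem tv_of (h2 : (2 : F) ≠ 0) {γ : Fˣ} (hγ : γ ^ 3 ≠ 1) (hz : dg (Pi.mulSingle 0 γ) ∈ B0 M) :
    ∃ (w φ : Fin 3 → F) (e : φ ⬝ᵥ w = 0), w ≠ 0 ∧ φ ≠ 0 ∧ w 1 = w 2 ∧ φ 1 = φ 2 ∧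
      tv w φ e ∈ B0 M := by
  have nY : LL h ≤ Subgroup.normalizer ((B0 M ⊓ CP F : Subgroup 𝐆) : Set 𝐆) := fun l hl =>
    H70.mem_normalizer_of_cj_le (H70.cj_le_iff.2 fun y hy => Subgroup.mem_inf.2
      ⟨c.B0N ((mem_LL h).1 hl).1 hy.1,
        mul_mem (mul_mem (LL_le_CP hl) hy.2) (inv_mem (LL_le_CP hl))⟩)
  have tL := t_LL h
  have aL := a_LL h
  have tL' := mul_mem (mul_mem aL tL) (inv_mem aL)
  obtain ⟨t, ht⟩ := exists_res (LL_le_CP tL)
  obtain ⟨t', ht'⟩ := exists_res (LL_le_CP tL')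
  obtain ⟨z, hz'⟩ := exists_res (single_CP γ)
  have cube : ∀ {g : 𝐆} {u : GL (Fin 2) F}, On (JW F) g u → g ^ 3 = 1 →
      u ^ 3 ∈ scalars (Fin 2) F := fun {g u} a e => by
    have := a.pow 3
    rw [e] at this
    rw [On.unique KW_JW this On.one]
    exact one_mem _
  obtain ⟨u, ⟨g, hg, hu⟩, v, φ, v0, φ0, e, eu⟩ := dk3 h2 h.three (res (B0 M ⊓ CP F ⊔ LL h))
    (res (B0 M ⊓ CP F)) (by
      rintro u ⟨g, hg, hu⟩
      obtain ⟨y, hy, l, hl, rfl⟩ := (H70.mem_sup_of_norm' nY).1 hg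
      have := H70.pow_mul_inv_mem_of_norm hy (nY hl) 12
      rw [LL_pow h hl, inv_one, mul_one] at this
      exact ⟨_, this, hu.pow 12⟩)
    ⟨_, Subgroup.mem_sup_right tL, ht⟩ ⟨_, Subgroup.mem_sup_right tL', ht'⟩
    ⟨_, Subgroup.mem_sup_left ⟨hz, single_CP γ⟩, hz'⟩ (cube ht (dG_cube h))
    (cube ht' (by rw [conj_pow, dG_cube, mul_one, mul_inv_cancel])) (fun hc => by
      have k1 := ((ht.mul ht').mul ht.inv).mul ht'.inv
      have k2 := mul_mem (mul_mem (mul_mem tL tL') (inv_mem tL)) (inv_mem tL')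
      have k3 := comm_t_sq h
      generalize h.dG * (h.h1 * h.dG * h.h1⁻¹) * h.dG⁻¹ * (h.h1 * h.dG * h.h1⁻¹)⁻¹ = k at k1 k2 k3
      have k4 : ∀ l ∈ LL h, k * l = l * k := fun l hl => by
        obtain ⟨u, hu⟩ := exists_res (LL_le_CP hl)
        exact eq_of_on h2 (LL_le_CP (mul_mem k2 hl)) (LL_le_CP (mul_mem hl k2)) (k1.mul hu)
          (scalars_comm hc u ▸ hu.mul k1)
      rcases LL_cent h k2 (k4 _ aL) (k4 _ tL) with rfl | rfl
      · exact aa_ne h (by rw [← k3, one_pow])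
      · exact aa_ne h (by rw [← k3, pow_two, aa_aa]))
    (On.unique KW_JW (hz'.mul ht) (by
      have : dg (Pi.mulSingle 0 γ) * h.dG = h.dG * dg (Pi.mulSingle 0 γ) := by
        rw [dG_eq, ← map_mul, ← map_mul, mul_comm]
      exact this ▸ ht.mul hz')) (fun hc => by
      obtain ⟨d, hd⟩ := mem_scalars_iff'.1 hc
      have k1 := hz'.pow 3
      rw [hd, ← map_pow, ← Pi.mulSingle_pow, On, coe_dg, coe_scal] at k1
      have a0 := congrFun (congrFun k1 0) 0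
      have a1 := congrFun (congrFun k1 1) 1
      simp [JW] at a0 a1
      exact hγ (Units.ext (by simpa using a0.trans a1.symm)))
  have e' : ![φ 0, φ 1 / 2, φ 1 / 2] ⬝ᵥ ![v 0, v 1, v 1] = 0 := by
    simp only [dotProduct, Fin.sum_univ_two] at e
    simp only [dotProduct, Fin.sum_univ_three]
    simp
    field_simp
    linear_combination 2 * e
  refine ⟨_, _, e', fun k => v0 ?_, fun k => φ0 ?_, rfl, rfl, ?_⟩
  · ext i
    fin_cases i
    exacts [congrFun k 0, congrFun k 1]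
  · ext i
    fin_cases i
    · exact congrFun k 0
    · simpa [h2] using congrFun k 1
  · rw [← show g = tv _ _ e' from Units.ext (ext_W h2 ?_ ?_)]
    · exact hg.1
    · rw [show (g : 𝐌) * JW F = _ from hu, eu, coe_tv]
      ext i j
      fin_cases i <;> fin_cases j <;>
        simp [JW, Matrix.mul_apply, Fin.sum_univ_three, Fin.sum_univ_two, vecMulVec_apply] <;>
        field_simp <;> ring
    · rw [(mem_CP.1 hg.2).2, tv_mulVec]
      simp [vA, dotProduct, Fin.sum_univ_three]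

end TvX

theorem pm_all {F : Type*} [Field F] [Fintype F] {ω : F} {h : Om ω} {M : Subgroup (GL I9 F)}
    (c : Cl h M) (two : (2 : F) = 0) {β : Fˣ} (hβ : β ≠ 1) (h3 : β ^ 3 = 1) (hD : HD M β)
    (σ : Equiv.Perm I9) : pm F σ ∈ M := by
  have h1 := TvX.aa_B0 c (TvX.hd_wu hβ h3 hD)
  rw [aa_eq, show (-1 : Fˣ) = 1 from Units.ext (by
    simp only [Units.val_neg, Units.val_one]; linear_combination -two), H98.scal_one, one_mul,
    mem_B0, TvX.single_P] at h1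
  refine Equiv.Perm.swap_induction_on σ (by rw [map_one]; exact one_mem _) fun f a b e k => ?_
  obtain ⟨τ, h2, rfl, rfl⟩ := c.two_tr (show ((1, 0) : I9) ≠ (2, 0) by decide) e
  rw [map_mul, Equiv.swap_apply_apply, map_mul, map_mul, map_inv]
  exact mul_mem (mul_mem (mul_mem h2 h1) (inv_mem h2)) k

theorem exists_tv {F : Type*} [Field F] [Fintype F] {ω : F} {h : Om ω} {M : Subgroup (GL I9 F)}
    (c : Cl h M) (h2 : (2 : F) ≠ 0) {β : Fˣ} (hβ : β ≠ 1) (hD : HD M β) :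
    ∃ (w φ : Fin 3 → F) (e : φ ⬝ᵥ w = 0), w ≠ 0 ∧ φ ≠ 0 ∧ w 1 = w 2 ∧ φ 1 = φ 2 ∧
      tv w φ e ∈ B0 M := by
  have k : ∀ {β : Fˣ}, β ≠ 1 → β ^ 3 = 1 → HD M β → ∃ γ : Fˣ, HD M γ ∧ (γ ^ 9) ^ 3 ≠ 1 :=
    fun a b d => ⟨-1, TvX.hd_neg c (TvX.aa_B0 c (TvX.hd_wu a b d)), fun e => h2 (by
      have := congrArg Units.val e
      simp only [Units.val_pow_eq_pow_val, Units.val_neg, Units.val_one] at this
      linear_combination -this)⟩
  obtain ⟨γ, h3, h4⟩ : ∃ γ : Fˣ, HD M γ ∧ (γ ^ 9) ^ 3 ≠ 1 := by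
    by_cases e1 : β ^ 3 = 1
    · exact k hβ e1 hD
    by_cases e2 : β ^ 9 = 1
    · exact k e1 (by rw [← pow_mul, e2]) (TvX.hd_pow hD 3)
    by_cases e3 : (β ^ 9) ^ 3 = 1
    · exact k e2 e3 (TvX.hd_pow hD 9)
    · exact ⟨β, hD, e3⟩
  exact TvX.tv_of c h2 h4 (TvX.single_B0 c h3)

end Cfsg.Agent.N9
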