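import Cfsg.Agent.N9.TI3
import Cfsg.Agent.N9.Tv
import Cfsg.Agent.N9.FinL
import Cfsg.Agent.N9.FinU

/-! Overgroups of the normaliser of `3^(1+4)` in `GL₉`. -/

set_option autoImplicit false

namespace Cfsg.Agent.N9

open Cfsg Cfsg.Geo Cfsg.Agent.H99 Cfsg.Agent.H85.L3 Matrix

theorem cl_NN {F : Type*} [Field F] [Fintype F] {ω : F} (h : Om ω) : Cl h (NN h) := cl_NN' h

theorem core_sl {F : Type*} [Field F] [Fintype F] {p : ℕ} (hp : p.Prime)
    (hF : Fintype.card F = p) {ω : F} (h : Om ω) {M : Subgroup (GL I9 F)} (c : Cl h M) :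
    M ≤ NN h ∨ specialLinear I9 F ≤ M := by
  have h2 : (2 : F) ≠ 0 := fun e => by
    have := Fact.mk hp
    have := charP_of_card_eq_prime hF
    obtain rfl : p = 2 := (Nat.prime_dvd_prime_iff_eq hp Nat.prime_two).1
      ((CharP.cast_eq_zero_iff F p 2).1 (by exact_mod_cast e))
    have h1 := FiniteField.pow_card ω
    rw [hF] at h1
    exact h.sq_ne h1.symm
  by_cases hB : B0 M ≤ scalars (Fin 3) F
  · exact Or.inl (c.le_NN (c.ti_of hB) fun e => absurd e h2)
  obtain ⟨β, hβ, hD⟩ := c.hd_of hB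
  obtain ⟨w, φ, e, a1, a2, a3, a4, a5⟩ := exists_tv c h2 hβ hD
  exact Or.inr (sl_of_tv hp hF c e a1 a2 a3 a4 a5)

theorem core_su {F : Type*} [Field F] [Fintype F] {q : ℕ} [Fact (Fintype.card F = q ^ 2)]
    (hq : q.Prime) {ω : F} (h : Om ω) (hω : ω ^ q = ω ^ 2) {M : Subgroup (GL I9 F)} (c : Cl h M)
    (hU : M ≤ similarityGroup (sumHerm I9 (H10.sig F q))) :
    M ≤ NN h ∨ H10.isoG (sumHerm I9 (H10.sig F q)) ⊓ specialLinear I9 F ≤ M := by
  have hF : Fintype.card F = q ^ 2 := Fact.out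
  have h2 : (2 : F) = 0 → q = 2 := fun e => by
    have := Fact.mk hq
    have := charP_of_card_eq_prime_pow hF
    exact (Nat.prime_dvd_prime_iff_eq hq Nat.prime_two).1
      ((CharP.cast_eq_zero_iff F q 2).1 (by exact_mod_cast e))
  by_cases hB : B0 M ≤ scalars (Fin 3) F
  · refine Or.inl (c.le_NN (c.ti_of hB) fun e g hg x y hxy => ?_)
    obtain rfl := h2 e
    obtain ⟨d, hd⟩ := hU hg
    exact (hd x y).trans (mul_eq_zero_of_right _ hxy)
  obtain ⟨β, hβ, hD⟩ := c.hd_of hB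
  by_cases two : (2 : F) = 0
  · obtain rfl := h2 two
    refine Or.inr (su_two h c (pm_all c two hβ ?_ hD) hβ hD)
    classical
    rw [← pow_card_eq_one (x := β), Fintype.card_units, hF]
    rfl
  obtain ⟨w, φ, e, a1, a2, a3, -, a5⟩ := exists_tv c two hβ hD
  exact Or.inr (su_of_tv hq two h hω c hU a1 a2 a3 e a5)

end Cfsg.Agent.N9
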