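import Cfsg.Agent.N9.Core
import Cfsg.Agent.H10.UMax
import Cfsg.Agent.H84.N9F

set_option autoImplicit false

namespace Cfsg.Agent.N9

open Cfsg Cfsg.Geo

theorem three_ne_zero_of {F : Type*} [Field F] {p : ℕ} (hp : p.Prime) [CharP F p] (h : p ≠ 3) :
    (3 : F) ≠ 0 := fun e =>
  h ((Nat.prime_dvd_prime_iff_eq hp Nat.prime_three).1
    ((CharP.cast_eq_zero_iff F p 3).1 (by exact_mod_cast e)))

theorem charP_of_card {F : Type*} [Field F] [Fintype F] {p k : ℕ} (hp : p.Prime)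
    (hF : Fintype.card F = p ^ k) : CharP F p := by
  obtain ⟨r, hr⟩ := CharP.exists F
  obtain ⟨n, hn, e⟩ := FiniteField.card F r
  have : r ∣ p ^ k := by rw [← hF, e]; exact dvd_pow_self r n.ne_zero
  obtain rfl := (Nat.prime_dvd_prime_iff_eq hn hp).1 (hn.dvd_of_dvd_pow this)
  exact hr

theorem isMaximalIn_sl {F : Type*} [Field F] [Fintype F] {p : ℕ} (hp : p.Prime)
    (hF : Fintype.card F = p) (h3 : p % 3 = 1) {R : Subgroup (GL (Fin 9) F)}
    (hR : IsLinearSymplecticTypeData 3 R) :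
    IsMaximalIn (specialLinear (Fin 9) F) (subgroupNormalizer R ⊓ specialLinear (Fin 9) F) := by
  haveI : CharP F p := charP_of_card (k := 1) hp (by rw [hF, pow_one])
  have p3 : p ≠ 3 := by omega
  have hz : Nat.card (Subgroup.center R) = 3 := by
    obtain ⟨_, _, -, -, h | h | h⟩ := hR.field
    exacts [h.2.2.1, absurd h.1 (by decide), absurd h.1 (by decide)]
  obtain ⟨ω, h, P, -, -, -, -, hN⟩ := H84.N9F.exists_frame (three_ne_zero_of hp p3)
    hR.symplecticType hR.absIrred hz (finProdFinEquiv (m := 3) (n := 3)).symm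
  exact H84.N9F.max_of h _ (fun g => H99.frmG_mem_sl _ P) hN (cl_NN h) (H84.N9F.gens_sl h)
    (fun M _ c => core_sl hp hF h c)
    (H99.not_sl_le_normalizer (by simp) Nat.prime_three hp p3.symm hR.symplecticType.pGroup
      hR.absIrred)

theorem isMaximalIn_su {F : Type*} [Field F] [Fintype F] {q : ℕ} (hF : Fintype.card F = q ^ 2)
    (hq : q.Prime) (h3 : q % 3 = 2) {R : Subgroup (GL (Fin 9) F)}
    (hR : IsSymplecticTypeGroup 3 R) (hi : ActsAbsolutelyIrreducibly (matrixSet R))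
    (hs : R ≤ similarityGroup (Cfsg.hermForm 9 F q)) (hz : Nat.card (Subgroup.center R) = 3) :
    IsMaximalIn (Cfsg.GU 9 F q ⊓ specialLinear (Fin 9) F)
      (subgroupNormalizer R ⊓ (Cfsg.GU 9 F q ⊓ specialLinear (Fin 9) F)) := by
  haveI : Fact (Fintype.card F = q ^ 2) := ⟨hF⟩
  haveI : CharP F q := charP_of_card hq hF
  have p3 : q ≠ 3 := by omega
  have hU : R ≤ Cfsg.GU 9 F q := H10.le_GU_of_sim (by decide) hR.pGroup hs
    ((Nat.Prime.coprime_iff_not_dvd Nat.prime_three).2 (by omega))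
  obtain ⟨ω, h, P, a1, a2, a3, a4, hN⟩ := H84.N9F.exists_frame (three_ne_zero_of hq p3)
    hR hi hz (finProdFinEquiv (m := 3) (n := 3)).symm
  have hω : ω ^ q = ω ^ 2 := by rw [pow_eq_pow_mod _ h.cube, h3]
  obtain ⟨c, c0, hc⟩ := H84.N9F.form_eq h (σ := H10.sig F q) hω H10.isSesq_herm
    (hU a1) (hU a2) (hU a3) (hU a4)
  obtain ⟨g1, g2, g3, g4, g5⟩ := H84.N9F.gens_sl h
  obtain ⟨u1, u2, u3, u4, u5⟩ := H84.N9F.gens_iso h (σ := H10.sig F q) hω
  exact H84.N9F.max_of h _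
    (G1 := H10.isoG (H99.sumHerm I9 (H10.sig F q)) ⊓ specialLinear I9 F)
    (fun g => and_congr (H10.frmG_mem_isoG c0 hc) (H99.frmG_mem_sl _ P)) hN (cl_NN h)
    ⟨⟨u1, g1⟩, ⟨u2, g2⟩, ⟨u3, g3⟩, ⟨u4, g4⟩, ⟨u5, g5⟩⟩
    (fun M hM c => core_su hq h hω c (H10.isSesq_sumHerm.sup_scalars_le_similarityGroup
      ((hM.trans inf_le_left).trans (H10.fixes_isoG _).le_similarityGroup)))
    (H10.not_SUG_le_normalizer (by decide) (by omega) Nat.prime_three hq p3.symm hR.pGroup hi hs)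

end Cfsg.Agent.N9
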